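import Cfsg.Agent.Jc.G3

/-! Elements of `Co0` from packed integer matrices. -/

set_option autoImplicit false

namespace Cfsg.Agent.Co.A

open Cfsg.Agent.L Cfsg.Agent.L.PC Cfsg.Spor Cfsg.Agent.H4 Cfsg.Agent.Jc Equiv Matrix

theorem fin_norm (n : ℤ) : {x : leechLattice | sqNorm (x : GolayPt → ℤ) = n}.Finite := by
  refine ((Set.Finite.pi' fun _ : GolayPt => Set.finite_Icc (-n) n).preimage
    Subtype.val_injective.injOn).subset fun x hx i => ?_
  have h : (x : GolayPt → ℤ) i ^ 2 ≤ n := hx ▸ Finset.single_le_sum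
    (f := fun i => (x : GolayPt → ℤ) i ^ 2) (fun _ _ => sq_nonneg _) (Finset.mem_univ i)
  constructor <;> nlinarith [sq_nonneg ((x : GolayPt → ℤ) i - 1), sq_nonneg ((x : GolayPt → ℤ) i + 1),
    sq_nonneg ((x : GolayPt → ℤ) i)]

/-- An element of `Co0` as an additive map. -/
def hm (g : Co0) : leechLattice →+ leechLattice := AddMonoidHom.mk' g.1 g.2.1

theorem hm_mul (g h : Co0) (x : leechLattice) : hm (g * h) x = hm g (hm h x) := rfl
theorem hm_one (x : leechLattice) : hm 1 x = x := rfl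
theorem hm_ext {g h : Co0} (e : ∀ x, hm g x = hm h x) : g = h := Subtype.ext (Equiv.ext e)
theorem hm_norm (g : Co0) (x : leechLattice) :
    sqNorm (hm g x : GolayPt → ℤ) = sqNorm (x : GolayPt → ℤ) := g.2.2 x

theorem finite_Co0 : Finite Co0 := by
  haveI := (fin_norm 64).to_subtype
  refine Finite.of_injective (β := GolayPt → {x : leechLattice | sqNorm (x : GolayPt → ℤ) = 64})
    (fun g i => ⟨hm g (eight i), (hm_norm g _).trans (sqNorm_eight i)⟩) fun g h e => hm_ext fun x => ?_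
  refine nsmul_right_injective (by decide : 8 ≠ 0) ?_
  simp only [← map_nsmul, eight_smul, map_sum, map_zsmul]
  exact Finset.sum_congr rfl fun i _ => congrArg _ (congrArg Subtype.val (congrFun e i))

theorem exists_of_add (f : leechLattice →+ leechLattice)
    (hn : ∀ x, sqNorm (f x : GolayPt → ℤ) = sqNorm (x : GolayPt → ℤ)) :
    ∃ g : Co0, ∀ x, hm g x = f x := by
  have hi : Function.Injective f := (injective_iff_map_eq_zero f).2 fun x hx => by
    by_contra h0
    have h1 := le_sqNorm (mem_leechLattice.1 x.2) fun h => h0 (Subtype.ext h)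
    rw [← hn, hx] at h1
    simp [sqNorm] at h1
  have hs : Function.Surjective f := fun y => by
    obtain ⟨x, -, hx⟩ := (((fin_norm (sqNorm (y : GolayPt → ℤ))).injOn_iff_bijOn_of_mapsTo
      (f := f) fun x hx => (hn x).trans hx).1 hi.injOn).surjOn (rfl : y ∈ {x : leechLattice | _ = _})
    exact ⟨x, hx⟩
  exact ⟨⟨Equiv.ofBijective f ⟨hi, hs⟩, map_add f, hn⟩, fun _ => rfl⟩

/-- entries of a packed matrix -/
def en (A i k : ℕ) : ℤ := (app 5 A (Nat.add (Nat.mul 32 i) k) : ℤ) - 8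

def mA (A : ℕ) : Matrix GolayPt GolayPt ℤ := fun i k => en A (genc i) (genc k)

def mv (A : ℕ) (x : ℕ → ℤ) (i : ℕ) : ℤ := sm fun k => en A i k * x k

def tY (y : ℕ → ℤ) : Bool :=
  let c := build 5 (fun i => (y i / 8 + 16).toNat) 24
  allb (fun i => decide (y i = 8 * ((app 5 c i : ℤ) - 16))) 24 && tL fun i => (app 5 c i : ℤ) - 16

theorem of_tY {y : ℕ → ℤ} (h : tY y = true) :
    ∃ z : leechLattice, (fun k => y (genc k)) = (8 : ℤ) • (z : GolayPt → ℤ) := by
  simp only [tY, Bool.and_eq_true, allb_iff, decide_eq_true_iff] at h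
  exact ⟨⟨_, mem_leechLattice.2 (mem_of_tL h.2)⟩, funext fun i => h.1 _ (GE.lt i)⟩

def tM (A : ℕ) : Bool :=
  allb (fun i => allb (fun k =>
    decide (sm (fun l => en A l i * en A l k) = cond (Nat.beq i k) 64 0)) 24) 24 &&
  tY (mv A vN) && alll (fun r => tY (mv A fun i => if bit r i = true then 2 else 0)) grows &&
  allb (fun i => tY (fun r => en A r i * 4 + en A r 23 * 4) &&
    tY fun r => en A r i * 4 + en A r 23 * -4) 24

theorem exists_co0 {A : ℕ} (h : tM A = true) :
    ∃ g : Co0, ∀ x : leechLattice, mA A *ᵥ (x : GolayPt → ℤ) = (8 : ℤ) • (hm g x : GolayPt → ℤ) := by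
  simp only [tM, Bool.and_eq_true, allb_iff, alll_iff, decide_eq_true_iff] at h
  obtain ⟨⟨⟨h1, h2⟩, h3⟩, h4⟩ := h
  have ho : (mA A)ᵀ * mA A = (64 : ℤ) • 1 := by
    ext i k
    rw [mul_apply]
    refine ((sum_genc fun l => en A l (genc i) * en A l (genc k)).trans
      (h1 _ (GE.lt i) _ (GE.lt k))).trans (?_ : cond (Nat.beq (genc i) (genc k)) _ _ = _)
    by_cases h : i = k
    · subst h; simp
    · rw [beq_genc h]; simp [h]
  let K : AddSubgroup (GolayPt → ℤ) :=
    { carrier := {x | ∃ y : leechLattice, mA A *ᵥ x = (8 : ℤ) • (y : GolayPt → ℤ)}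
      add_mem' := by
        rintro a b ⟨y, hy⟩ ⟨z, hz⟩
        exact ⟨y + z, by rw [mulVec_add, hy, hz, AddSubgroup.coe_add, smul_add]⟩
      zero_mem' := ⟨0, by simp⟩
      neg_mem' := by
        rintro a ⟨y, hy⟩
        exact ⟨-y, by rw [mulVec_neg, hy, AddSubgroup.coe_neg, smul_neg]⟩ }
  have k1 : ∀ x : ℕ → ℤ, tY (mv A x) = true → (fun k => x (genc k)) ∈ K := fun x hx =>
    (of_tY hx).imp fun z hz => (funext fun i => sum_genc fun k => en A (genc i) k * x k).trans hz
  have hK : leechLattice ≤ K := by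
    refine leech_le (vecV_eq ▸ k1 vN h2) (fun r hr => k1 _ (h3 r hr)) fun i ε => ?_
    have e : ∀ c : ℤ, mA A *ᵥ (Pi.single i 4 + Pi.single none c) =
        fun r => en A (genc r) (genc i) * 4 + en A (genc r) 23 * c := fun c => by
      rw [mulVec_add, mulVec_single, mulVec_single]; rfl
    rcases Int.units_eq_one_or ε with rfl | rfl
    · exact (of_tY (h4 _ (GE.lt i)).1).imp fun z hz => (e _).trans hz
    · exact (of_tY (h4 _ (GE.lt i)).2).imp fun z hz => (e (4 * ((-1 : ℤˣ) : ℤ))).trans hz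
  choose f hf using fun x : leechLattice => hK x.2
  have h8 : ∀ {a b : GolayPt → ℤ}, (8 : ℤ) • a = (8 : ℤ) • b → a = b := fun h =>
    smul_right_injective _ (by decide : (8 : ℤ) ≠ 0) h
  obtain ⟨g, hg⟩ := exists_of_add (AddMonoidHom.mk' f fun x y => Subtype.ext (h8 (by
    rw [← hf, AddSubgroup.coe_add, AddSubgroup.coe_add, mulVec_add, hf, hf, smul_add]))) fun x => by
      have h : (mA A *ᵥ (x : GolayPt → ℤ)) ⬝ᵥ (mA A *ᵥ (x : GolayPt → ℤ)) =
          64 * ((x : GolayPt → ℤ) ⬝ᵥ x) := by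
        rw [dotProduct_mulVec, vecMul_mulVec, ho]
        simp [mul_comm]
      rw [hf, smul_dotProduct, dotProduct_smul] at h
      simp only [sqNorm, sq, AddMonoidHom.mk'_apply]
      simp only [dotProduct, smul_eq_mul] at h
      omega
  exact ⟨g, fun x => by rw [hg]; exact hf x⟩

end Cfsg.Agent.Co.A
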