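import Cfsg.Agent.Co.A2

/-! The embedding of the model group into `Co0`. -/

set_option autoImplicit false

namespace Cfsg.Agent.Co.A

open Cfsg.Agent.L Cfsg.Agent.L.PC Cfsg.Spor Cfsg.Agent.H4 Cfsg.Agent.Jc Equiv Matrix

/-- The twelve coordinates of the ternary Golay code. -/
def cc (i : Fin 12) (x : Sy) : K3 :=
  ![x.r + x.u, x.r + x.t - x.u, x.r - x.t - x.u, x.p, x.p - x.s + x.u, x.p + x.s + x.u,
    -x.p + x.q - x.r, -x.p + x.q - x.r + x.s + x.t - x.u, -x.p + x.q - x.r - x.s - x.t - x.u,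
    -x.p - x.q - x.r, -x.p - x.q - x.r + x.s - x.t - x.u, -x.p - x.q - x.r - x.s + x.t - x.u] i

/-- Signed permutations. -/
abbrev Sp : Type := Fin 12 → Fin 12 × Bool

def tw (σ : Sp) (x : Sy) : Mo := fun i => ((σ i).1, (σ i).2, cc i x)
def sc (σ τ : Sp) : Sp := fun i => ((τ (σ i).1).1, xor (σ i).2 (τ (σ i).1).2)
def s0 : Sp := fun i => (i, false)
def pw (σ : Sp) (k : K3) : Sp := if k = 0 then s0 else if k = 1 then σ else sc σ σ
def sa : Sp := ![(0, false), (1, false), (2, false), (6, true), (7, true), (8, true), (9, false),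
  (10, false), (11, false), (3, true), (4, true), (5, true)]
def sb : Sp := fun i => (![2, 0, 1, 3, 4, 5, 7, 8, 6, 11, 9, 10] i, false)
def sz : Sp := fun i => (![0, 1, 2, 4, 5, 3, 7, 8, 6, 10, 11, 9] i, false)
def s1 : Sp := fun i => (![3, 4, 5, 0, 2, 1, 9, 11, 10, 6, 7, 8] i, false)
def s2 : Sp := ![(0, false), (1, true), (2, true), (3, false), (9, true), (6, true), (4, true),
  (10, false), (7, false), (5, true), (11, false), (8, false)]
def sR (a b z : K3) : Sp := sc (pw sz z) (sc (pw sb b) (pw sa a))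
def mS (x : Sy) : Mo := tw (sR x.a x.b x.z) x

theorem sR_a : ∀ a b z i, sR (1 + a) (0 + b) (0 + z + 1 * b) i = sc (sR 1 0 0) (sR a b z) i := by
  decide +kernel
theorem sR_b : ∀ a b z i, sR (0 + a) (1 + b) (0 + z + 0 * b) i = sc (sR 0 1 0) (sR a b z) i := by
  decide +kernel
theorem sR_u : ∀ a b z i, sR (0 + a) (0 + b) (0 + z + 0 * b) i = sc (sR 0 0 0) (sR a b z) i := by
  decide +kernel

theorem cc_gen {g : Sy} (hg : g ∈ [ga, gb, gu]) (i : Fin 12) (x : Sy) : cc i (g * x) =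
    cc i g + sn (sR g.a g.b g.z i).2 * cc (sR g.a g.b g.z i).1 x := by
  simp only [List.mem_cons, List.not_mem_nil, or_false] at hg
  rcases hg with rfl | rfl | rfl
  · rw [show sR ga.a ga.b ga.z = sa by decide]
    fin_cases i <;> simp [cc, sa, ga] <;> grind
  · rw [show sR gb.a gb.b gb.z = sb by decide]
    fin_cases i <;> simp [cc, sb, gb] <;> grind
  · rw [show sR gu.a gu.b gu.z = s0 by decide]
    fin_cases i <;> simp [cc, s0, gu] <;> grind

theorem cc_n1 (i : Fin 12) (x : Sy) : cc i (n1 1 x) = sn (s1 i).2 * cc (s1 i).1 x := by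
  fin_cases i <;> simp [cc, s1, n1_apply] <;> grind

theorem cc_n2 (i : Fin 12) (x : Sy) : cc i (n2 0 x) = sn (s2 i).2 * cc (s2 i).1 x := by
  fin_cases i <;> simp [cc, s2, n2_apply] <;> grind

theorem mS_gen {g : Sy} (hg : g ∈ [ga, gb, gu]) (x : Sy) : mS (g * x) = cp (mS g) (mS x) := by
  funext i
  have h1 : sR (g * x).a (g * x).b (g * x).z i = sc (sR g.a g.b g.z) (sR x.a x.b x.z) i := by
    simp only [List.mem_cons, List.not_mem_nil, or_false] at hg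
    rcases hg with rfl | rfl | rfl
    exacts [sR_a _ _ _ i, sR_b _ _ _ i, sR_u _ _ _ i]
  simp only [mS, tw, cp, h1, cc_gen hg, sc]

theorem Sy_ind {K : Submonoid Sy} (ha : ga ∈ K) (hb : gb ∈ K) (hu : gu ∈ K) (x : Sy) : x ∈ K := by
  have w : ∀ {a b c d e f g : Sy}, a ∈ K → b ∈ K → c ∈ K → d ∈ K → e ∈ K → f ∈ K →
      a * b * c * d * e * f = g → g ∈ K := fun a b c d e f h =>
    h ▸ mul_mem (mul_mem (mul_mem (mul_mem (mul_mem a b) c) d) e) f
  have hz : gz ∈ K := w ha ha hb hb ha hb (by decide)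
  have ht : gt ∈ K := w hb hu hu hb hu hb (by decide)
  have hr : gr ∈ K := w hb hb ht hb ht ht (by decide)
  have hs : gs ∈ K := w ha ha ht ht ha ht (by decide)
  have hq : gq ∈ K := w ha hr hr ha hr ha (by decide)
  have hp : gp ∈ K := w ha ha hq ha hq hq (by decide)
  have v : ∀ {g : Sy} (f : K3 → Sy) (k : K3), g ∈ K → (∀ k, f k = g ^ k.val) → f k ∈ K :=
    fun f k hg h => h k ▸ pow_mem hg _
  have e : x = (jv x.p 0 0 0 0 0) * (jv 0 x.q 0 0 0 0) * (jv 0 0 x.r 0 0 0) * (jv 0 0 0 x.s 0 0) *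
      (jv 0 0 0 0 x.t 0) * (jv 0 0 0 0 0 x.u) * ⟨0, 0, 0, 0, 0, 0, 0, 0, x.z⟩ *
      ⟨0, 0, 0, 0, 0, 0, 0, x.b, 0⟩ * ⟨0, 0, 0, 0, 0, 0, x.a, 0, 0⟩ := by ext <;> simp
  rw [e]
  exact mul_mem (mul_mem (mul_mem (mul_mem (mul_mem (mul_mem (mul_mem (mul_mem
    (v (jv · 0 0 0 0 0) _ hp (by decide)) (v (jv 0 · 0 0 0 0) _ hq (by decide)))
    (v (jv 0 0 · 0 0 0) _ hr (by decide))) (v (jv 0 0 0 · 0 0) _ hs (by decide)))
    (v (jv 0 0 0 0 · 0) _ ht (by decide))) (v (jv 0 0 0 0 0 ·) _ hu (by decide)))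
    (v (⟨0, 0, 0, 0, 0, 0, 0, 0, ·⟩) _ hz (by decide)))
    (v (⟨0, 0, 0, 0, 0, 0, 0, ·, 0⟩) _ hb (by decide)))
    (v (⟨0, 0, 0, 0, 0, 0, ·, 0, 0⟩) _ ha (by decide))

theorem ck_u : tM cU = true ∧ tR cU (mS gu) = true := by decide +kernel
theorem ck_a : tM cA = true ∧ tR cA (mS ga) = true := by decide +kernel
theorem ck_b : tM cB = true ∧ tR cB (mS gb) = true := by decide +kernel
theorem ck_1 : tM c1 = true ∧ tR c1 (tw s1 1) = true := by decide +kernel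
theorem ck_2 : tM c2 = true ∧ tR c2 (tw s2 1) = true := by decide +kernel
theorem ck_3 : tM c3 = true ∧ tR cS (mS gs) = true ∧ tR cZ (mS gz) = true ∧
    allb (fun i => allb (fun k => decide (mm c3 cS i k = mm cZ c3 i k)) 24) 24 = true := by
  decide +kernel

theorem ap_J {j : Sy} (hj : j ∈ J) (v : Ve) (i : Fin 12) : ap (mS j) v i = om (cc i j) * v i := by
  obtain ⟨a, b, z⟩ := hj
  simp only [ap, mS, tw, a, b, z]
  rfl

theorem ap_one (v : Ve) : ap (mS 1) v = v := funext fun i => by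
  rw [ap_J (one_mem _), (by decide : ∀ i, om (cc i 1) = 1) i, one_mul]

theorem good (x : Sy) :
    (∃ g, Rep g (mS x)) ∧ ∀ y v, ap (mS (x * y)) v = ap (mS x) (ap (mS y) v) := by
  let K : Submonoid Sy :=
    { carrier := {x | (∃ g, Rep g (mS x)) ∧ ∀ y v, ap (mS (x * y)) v = ap (mS x) (ap (mS y) v)}
      one_mem' := ⟨⟨1, fun x => (ap_one _).symm⟩, fun y v => by rw [one_mul, ap_one]⟩
      mul_mem' := by
        rintro a b ⟨⟨g, hg⟩, ha⟩ ⟨⟨h, hh⟩, hb⟩
        exact ⟨⟨g * h, fun x => by rw [hm_mul, hg, hh, ha]⟩,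
          fun y v => by rw [mul_assoc, ha, hb, ha]⟩ }
  exact Sy_ind (K := K)
    ⟨exists_rep ck_a.1 ck_a.2, fun y v => by rw [mS_gen (by simp), ap_cp]⟩
    ⟨exists_rep ck_b.1 ck_b.2, fun y v => by rw [mS_gen (by simp), ap_cp]⟩
    ⟨exists_rep ck_u.1 ck_u.2, fun y v => by rw [mS_gen (by simp), ap_cp]⟩ x

/-- The embedding. -/
noncomputable def io : Sy →* Co0 := MonoidHom.mk' (fun x => (good x).1.choose) fun x y =>
  (good (x * y)).1.choose_spec.uniq fun v => by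
    rw [hm_mul, (good x).1.choose_spec, (good y).1.choose_spec, (good x).2]

theorem io_rep (x : Sy) : Rep (io x) (mS x) := (good x).1.choose_spec

theorem io_J {j : Sy} (hj : j ∈ J) (x : leechLattice) (i : Fin 12) :
    Ph (hm (io j) x) i = om (cc i j) * Ph x i := by rw [io_rep, ap_J hj]

theorem exists_n {σ : Sp} {A : ℕ} (h : tM A = true ∧ tR A (tw σ 1) = true) {n : Sy → Sy}
    (h1 : ∀ j ∈ J, n j ∈ J) (h2 : ∀ j ∈ J, ∀ i, cc i (n j) = sn (σ i).2 * cc (σ i).1 j) :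
    ∃ g : Co0, ∀ j ∈ J, g * io j * g⁻¹ = io (n j) := by
  obtain ⟨g, hg⟩ := exists_rep h.1 h.2
  refine ⟨g, fun j hj => mul_inv_eq_iff_eq_mul.2 ((hg.mul (io_rep j)).uniq ?_)⟩
  convert (io_rep (n j)).mul hg using 1
  funext i
  obtain ⟨a, b, z⟩ := hj
  obtain ⟨a', b', z'⟩ := h1 j ⟨a, b, z⟩
  have e : ∀ i, cc i 1 = 0 := by decide
  have e' : sR 0 0 0 = s0 := by decide
  simp [cp, mS, tw, a, b, z, a', b', z', e, e', s0, h2 j ⟨a, b, z⟩]

theorem exists_g1 : ∃ g : Co0, ∀ j ∈ J, g * io j * g⁻¹ = io (n1 1 j) :=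
  exists_n ck_1 (fun j hj => by simpa [n1_apply, and_comm, and_assoc] using hj) fun j _ i =>
    cc_n1 i j

theorem exists_g2 : ∃ g : Co0, ∀ j ∈ J, g * io j * g⁻¹ = io (n2 0 j) :=
  exists_n ck_2 (fun j hj => ⟨hj.2.2, hj.2.1, by simp [n2_apply, hj.1]⟩) fun j _ i =>
    cc_n2 i j

theorem exists_g3 : ∃ g : Co0, g * io gs * g⁻¹ = io gz := by
  obtain ⟨g, hg⟩ := exists_co0 ck_3.1
  have e : mA c3 * mA cS = mA cZ * mA c3 := by
    ext i k
    exact (sum_genc fun l => en c3 _ l * en cS l _).trans ((of_decide_eq_true (allb_iff.1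
      (allb_iff.1 ck_3.2.2.2 _ (GE.lt i)) _ (GE.lt k))).trans
        (sum_genc fun l => en cZ _ l * en c3 l _).symm)
  refine ⟨g, mul_inv_eq_iff_eq_mul.2 (hm_ext fun x => Subtype.ext
    (smul_right_injective _ (by decide : (8 * 8 : ℤ) ≠ 0) ?_))⟩
  simp only [hm_mul, mul_smul]
  rw [← hg, ← (io_rep gz).mat ck_3.2.2.1, ← mulVec_smul, ← mulVec_smul, ← hg,
    ← (io_rep gs).mat ck_3.2.1, mulVec_mulVec, mulVec_mulVec, e]

end Cfsg.Agent.Co.A
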