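import Cfsg.Agent.Co.A3

/-! The centraliser of `3⁶` in `Co0`. -/

set_option autoImplicit false

namespace Cfsg.Agent.Co.A

open Cfsg.Agent.L Cfsg.Agent.L.PC Cfsg.Spor Cfsg.Agent.H4 Cfsg.Agent.Jc Equiv Matrix

def th : Ei := ⟨24, 48⟩
def sgn (s : Bool) : Ei := cond s (-1) 1
def lf (k : K3) : ℤ := if k = 0 then 0 else if k = 1 then 1 else -1
def colE (c : ℕ) : GolayPt → ℤ := fun l => en cE (genc l) c
def par : Fin 6 → Fin 12 → ℤ := ![![1, 1, 1, -1, -1, -1, 0, 0, 0, 0, 0, 0],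
  ![1, -1, 0, 1, 0, -1, -1, 1, 0, 0, 0, 0], ![-1, 1, 0, 0, 1, -1, -1, 0, 1, 0, 0, 0],
  ![-1, 0, 0, 1, -1, -1, 1, 0, 0, 1, 0, 0], ![1, 1, 0, 1, 1, 0, 1, 0, 0, 0, 1, 0],
  ![0, -1, 0, -1, 1, -1, 1, 0, 0, 0, 0, 1]]
def x0 (l : Fin 12) : ℤ := if l = 0 then 4 else 1

theorem ck_E1 : allb (fun c => tL fun k => en cE k c) 24 = true := by decide +kernel
theorem ck_E2 : ∀ i l : Fin 12, pc cE i l = if l = i then th else 0 := by decide +kernel
theorem ck_E3 : ∀ i l : Fin 12, i ≠ 0 →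
    pc cE (11 + i) l = if l = 0 then 24 else if l = i then -24 else 0 := by decide +kernel
theorem ck_E4 : ∀ l : Fin 12, pc cE 23 l = ⟨8 * x0 l, 0⟩ ∧
    ∀ c : Fin 6, pc cE (24 + c) l = ⟨8 * par c l, 16 * par c l⟩ := by decide +kernel

/-- The coordinates on the lattice. -/
def Pl : leechLattice →+ Ve := Ph.comp leechLattice.subtype

theorem Pl_inj : Function.Injective Pl := Ph_inj.comp Subtype.val_injective

theorem Pl_J {j : Sy} (hj : j ∈ J) (x : leechLattice) (i : Fin 12) :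
    Pl (hm (io j) x) i = om (cc i j) * Pl x i := io_J hj x i

/-- The special vectors. -/
def ev (c : ℕ) (h : c < 24) : leechLattice :=
  ⟨colE c, mem_leechLattice.2 (mem_of_tL (allb_iff.1 ck_E1 c h))⟩

theorem Pl_ev (c : ℕ) (h : c < 24) : Pl (ev c h) = pc cE c := Ph_col cE c

def ee (i : Fin 12) : leechLattice := ev i (by omega)

theorem Pl_ee (i l : Fin 12) : Pl (ee i) l = if l = i then th else 0 := by
  rw [ee, Pl_ev, ck_E2]

theorem dvd_Bf (x : leechLattice) (c : Fin 7) : 576 ∣ Bf (Pl x) (pc cE (23 + c)) := by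
  let K : AddSubgroup (GolayPt → ℤ) :=
    { carrier := {x | ∀ c : Fin 7, 8 ∣ dotInt x (colE (23 + c))}
      add_mem' := fun {a b} ha hb c => by
        simpa only [dotInt, Pi.add_apply, add_mul, Finset.sum_add_distrib] using
          dvd_add (ha c) (hb c)
      zero_mem' := fun c => by simp [dotInt]
      neg_mem' := fun {a} ha c => by
        simpa only [dotInt, Pi.neg_apply, neg_mul, Finset.sum_neg_distrib, dvd_neg] using ha c }
  have hK : leechLattice ≤ K := by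
    refine leech_le (by decide +kernel : ∀ c : Fin 7, 8 ∣ dotInt vecV (colE (23 + c)))
      (by decide +kernel : ∀ r ∈ grows, ∀ c : Fin 7,
        8 ∣ dotInt (fun i => if bit r (genc i) = true then (2 : ℤ) else 0) (colE (23 + c)))
      fun i ε c => ?_
    have h := (by decide +kernel : ∀ c : Fin 7, ∀ i, 2 ∣ colE (23 + c) i - colE (23 + c) none) c i
    simp only [dotInt, four, Pi.add_apply, add_mul, Finset.sum_add_distrib, Pi.single_apply,
      ite_mul, zero_mul, Finset.sum_ite_eq', Finset.mem_univ, if_true]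
    rcases Int.units_eq_one_or ε with rfl | rfl <;> simp only [Units.val_one, Units.val_neg] <;> omega
  rw [← Ph_col]
  exact (Bf_Ph x (colE (23 + c))).symm ▸ mul_dvd_mul_left 72 (hK x.2 c)

theorem om_fix {k : K3} (hk : k ≠ 0) {z : Ei} (h : om k * z = z) : z = 0 := by
  have h1 := congrArg QuadraticAlgebra.re h
  have h2 := congrArg QuadraticAlgebra.im h
  by_cases h3 : k = 1 <;> simp [om, hk, h3] at h1 h2 <;> ext <;> simp <;> omega

theorem th_cancel {z w : Ei} (h : th * z = th * w) : z = w := by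
  have h1 := congrArg QuadraticAlgebra.re h
  have h2 := congrArg QuadraticAlgebra.im h
  simp only [th, QuadraticAlgebra.re_mul, QuadraticAlgebra.im_mul] at h1 h2
  ext <;> omega

theorem nrm {z : Ei} (h : bf z z = bf th th) : ∃ s k, z = th * (sgn s * om k) := by
  have key : allb (fun a => allb (fun b => decide (bf ⟨(a : ℤ) - 48, (b : ℤ) - 48⟩
      ⟨(a : ℤ) - 48, (b : ℤ) - 48⟩ = 3456 → ∃ s k, (⟨(a : ℤ) - 48, (b : ℤ) - 48⟩ : Ei) =
        th * (sgn s * om k))) 97) 97 = true := by decide +kernel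
  obtain ⟨a, b⟩ := z
  have h' : bf ⟨a, b⟩ ⟨a, b⟩ = 3456 := h
  have h1 := h'
  simp only [bf] at h1
  have ha : -48 ≤ a ∧ a ≤ 48 := by constructor <;> nlinarith [sq_nonneg (a - 2 * b)]
  have hb : -48 ≤ b ∧ b ≤ 48 := by constructor <;> nlinarith [sq_nonneg (b - 2 * a)]
  have := of_decide_eq_true (allb_iff.1 (allb_iff.1 key (a + 48).toNat (by omega)) (b + 48).toNat
    (by omega))
  rw [show (((a + 48).toNat : ℕ) : ℤ) - 48 = a by omega,
    show (((b + 48).toNat : ℕ) : ℤ) - 48 = b by omega] at this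
  exact this h'

theorem sep : ∀ i l : Fin 12, l ≠ i → ∃ j ∈ [jv 0 0 0 0 1 0, jv 1 0 1 0 0 1, jv 0 0 0 0 1 1,
    jv 1 0 1 0 2 2, jv 0 0 1 0 0 2, jv 1 0 2 0 0 2, jv 0 0 0 1 0 1, jv 0 0 0 1 0 2, jv 0 1 1 0 0 0,
    jv 0 1 2 0 0 0], (j.a = 0 ∧ j.b = 0 ∧ j.z = 0) ∧ cc i j = 0 ∧ cc l j ≠ 0 := by decide +kernel

theorem fix_ee {j : Sy} (hj : j ∈ J) {i : Fin 12} (h : cc i j = 0) : hm (io j) (ee i) = ee i :=
  Pl_inj (funext fun l => by
    rw [Pl_J hj, Pl_ee]
    split_ifs with e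
    · rw [e, h]; exact one_mul th
    · exact mul_zero _)

/-- Multiplication by an Eisenstein integer. -/
noncomputable def es (z : Ei) (x : leechLattice) : leechLattice :=
  z.re • x + z.im • hm (io (jv 1 0 1 0 0 0)) x

theorem Pl_es (z : Ei) (x : leechLattice) (i : Fin 12) : Pl (es z x) i = z * Pl x i := by
  simp only [es, map_add, map_zsmul, Pi.add_apply, Pi.smul_apply,
    Pl_J (j := jv 1 0 1 0 0 0) ⟨rfl, rfl, rfl⟩,
    (by decide : ∀ i, om (cc i (jv 1 0 1 0 0 0)) = ⟨0, 1⟩) i]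
  ext <;> simp <;> ring

theorem diag {g : Co0} (h : ∀ j ∈ J, g * io j = io j * g) :
    ∃ (s : Fin 12 → Bool) (k : Fin 12 → K3), ∀ x i, Pl (hm g x) i = sgn (s i) * om (k i) * Pl x i := by
  have h1 : ∀ i l, l ≠ i → Pl (hm g (ee i)) l = 0 := fun i l hl => by
    obtain ⟨j, -, hj, a, b⟩ := sep i l hl
    refine om_fix b ?_
    rw [← Pl_J hj, ← hm_mul, ← h j hj, hm_mul, fix_ee hj a]
  have h2 : ∀ i, ∃ s k, Pl (hm g (ee i)) i = th * (sgn s * om k) := fun i => by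
    have e : Bf (Pl (hm g (ee i))) (Pl (hm g (ee i))) = Bf (Pl (ee i)) (Pl (ee i)) :=
      (Bf_Ph _ _).trans ((congrArg _ (dotInt_co0 g.2 _ _)).trans (Bf_Ph _ _).symm)
    rw [Bf, Bf, Finset.sum_eq_single i (fun l _ hl => by simp [h1 i l hl, bf]) (by simp),
      Finset.sum_eq_single i (fun l _ hl => by simp [Pl_ee, hl, bf]) (by simp), Pl_ee,
      if_pos rfl] at e
    exact nrm e
  choose s k hk using h2
  refine ⟨s, k, fun x l => th_cancel ?_⟩
  have h3 : ∀ z x, hm g (es z x) = es z (hm g x) := fun z x => by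
    simp only [es, map_add, map_zsmul, ← hm_mul, h (jv 1 0 1 0 0 0) ⟨rfl, rfl, rfl⟩]
  have h4 : es th x = ∑ i, es (Pl x i) (ee i) := Pl_inj (funext fun l => by
    simp [Pl_es, Pl_ee, mul_comm])
  rw [← Pl_es, ← h3, h4]
  simp only [map_sum, h3, Finset.sum_apply, Pl_es]
  rw [Finset.sum_eq_single l (fun i _ hl => by rw [h1 i l hl.symm, mul_zero]) (by simp), hk]
  ring

theorem parity {s : Bool} {k : Fin 12 → K3} {η : Fin 12 → ℤ}
    (h : 576 ∣ ∑ l, bf (sgn s * om (k l) * ⟨8 * x0 l, 0⟩) ⟨8 * η l, 16 * η l⟩) :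
    ∑ l, (η l : K3) * k l = 0 := by
  have e : ∀ (k : K3) (a b : ℤ), bf (sgn s * om k * ⟨8 * a, 0⟩) ⟨8 * b, 16 * b⟩ =
      cond s (-192) 192 * (a * b * lf k) := fun k a b => by
    by_cases h0 : k = 0 <;> by_cases h1 : k = 1 <;> cases s <;> simp [bf, sgn, om, lf, h0, h1] <;>
      ring
  simp only [e, ← Finset.mul_sum] at h
  have h3 : (3 : ℤ) ∣ ∑ l, x0 l * η l * lf (k l) := by cases s <;> simp only [cond] at h <;> omega
  have h4 := (ZMod.intCast_zmod_eq_zero_iff_dvd _ 3).2 h3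
  simpa [(by decide : ∀ l, ((x0 l : ℤ) : K3) = 1), (by decide : ∀ k, ((lf k : ℤ) : K3) = k)] using h4

/-- `±1` -/
def Pm (n : Co0) : Prop := (∀ x, hm n x = x) ∨ ∀ x, hm n x = -x

theorem Pm.center {n : Co0} (h : Pm n) : n ∈ Subgroup.center Co0 :=
  Subgroup.mem_center_iff.2 fun g => hm_ext fun x => by
    rcases h with h | h <;> simp only [hm_mul, h, map_neg]

theorem Pm.sq {n : Co0} (h : Pm n) : n * n = 1 := hm_ext fun x => by
  rcases h with h | h <;> simp only [hm_mul, h, map_neg, neg_neg, hm_one]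

theorem cent0 {g : Co0} (h : ∀ j ∈ J, g * io j = io j * g) : ∃ j ∈ J, Pm (g * (io j)⁻¹) := by
  obtain ⟨s, k, hk⟩ := diag h
  have h1 : ∀ i, s i = s 0 := fun i => by
    by_cases hi : i = 0
    · rw [hi]
    have e := dvd_Bf (hm g (ev (11 + i) (by omega))) 0
    simp only [Bf, hk, Pl_ev, ck_E3 i _ hi] at e
    rw [Finset.sum_eq_add_of_mem 0 i (Finset.mem_univ _) (Finset.mem_univ _) (Ne.symm hi)
      fun l _ hl => by simp [hl.1, hl.2, bf]] at e
    simp only [Fin.val_zero, add_zero, (ck_E4 _).1, x0, hi, if_true, if_false] at e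
    exact (by decide +kernel : ∀ s s' k k', (576 : ℤ) ∣ bf (sgn s * om k * 24) ⟨8 * 4, 0⟩ +
      bf (sgn s' * om k' * -24) ⟨8 * 1, 0⟩ → s' = s) _ _ _ _ e
  have h2 : ∀ c : Fin 6, ∑ l, (par c l : K3) * k l = 0 := fun c => by
    have e := dvd_Bf (hm g (ev 23 (by omega))) c.succ
    rw [show 23 + c.succ.val = 24 + c.val by simp; omega] at e
    simp only [Bf, hk, Pl_ev, (ck_E4 _).1, (ck_E4 _).2, h1] at e
    exact parity e
  have a0 := h2 0
  have a1 := h2 1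
  have a2 := h2 2
  have a3 := h2 3
  have a4 := h2 4
  have a5 := h2 5
  simp [par, Fin.sum_univ_succ] at a0 a1 a2 a3 a4 a5
  obtain ⟨j, hj, e⟩ : ∃ j ∈ J, ∀ i, cc i j = k i :=
    ⟨jv (k 3) (k 6 + k 0 + k 4 + k 5 - k 3) (k 0 + k 3 + k 4 + k 5) (k 4 - k 5)
      (k 1 - k 0 + k 3 + k 4 + k 5) (-k 3 - k 4 - k 5), ⟨rfl, rfl, rfl⟩, fun i => by
      fin_cases i <;> simp [cc] <;> grind⟩
  have h3 : ∀ x i, Pl (hm (g * (io j)⁻¹) x) i = sgn (s 0) * Pl x i := fun x i => by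
    rw [hm_mul, hk, h1, mul_assoc, ← e, ← Pl_J hj, ← hm_mul, mul_inv_cancel, hm_one]
  refine ⟨j, hj, ?_⟩
  rcases hs : s 0 with _ | _
  · exact .inl fun x => Pl_inj (funext fun i => by rw [h3, hs]; exact one_mul _)
  · exact .inr fun x => Pl_inj (funext fun i => by rw [h3, hs, map_neg]; exact neg_one_mul _)

end Cfsg.Agent.Co.A
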