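import Cfsg.Agent.Co.A4

/-! The Conway group `Co1` realises the data `GD`. -/

set_option autoImplicit false

namespace Cfsg.Agent.Co.A

open Cfsg.Agent.L Cfsg.Spor Cfsg.Agent.H4 Equiv

theorem io_inj {j j' : Sy} (hj : j ∈ J) (hj' : j' ∈ J) (h : io j = io j') : j = j' := by
  have e : ∀ i, cc i j = cc i j' := fun i => by
    have h1 := Pl_J hj (ee i) i
    rw [h, Pl_J hj', Pl_ee, if_pos rfl] at h1
    exact (by decide : ∀ a b, om a * th = om b * th → b = a) _ _ h1
  have a0 := e 0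
  have a1 := e 1
  have a3 := e 3
  have a4 := e 4
  have a5 := e 5
  have a6 := e 6
  simp [cc] at a0 a1 a3 a4 a5 a6
  obtain ⟨a, b, z⟩ := hj
  obtain ⟨a', b', z'⟩ := hj'
  ext <;> grind

theorem conj_J (x : Sy) {j : Sy} (hj : j ∈ J) : x * j * x⁻¹ ∈ J := by
  obtain ⟨a, b, z⟩ := hj
  simp [a, b, z]

theorem cube_J {j : Sy} (hj : j ∈ J) : j ^ 3 = 1 := by
  obtain ⟨a, b, z⟩ := hj
  rw [pow_three]
  ext <;> simp [a, b, z] <;> grind

theorem center_Pm {z : Co0} (hz : z ∈ Subgroup.center Co0) : Pm z := by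
  obtain ⟨j, hj, h⟩ := cent0 (g := z) fun j _ => (Subgroup.mem_center_iff.1 hz _).symm
  have h1 : io j ∈ Subgroup.center Co0 := by
    simpa using mul_mem (inv_mem h.center) hz
  have h2 : ∀ g, g * io j * g⁻¹ = io j := fun g => by
    rw [Subgroup.mem_center_iff.1 h1 g, mul_inv_cancel_right]
  obtain ⟨g1, e1⟩ := exists_g1
  obtain ⟨g2, e2⟩ := exists_g2
  have k1 := io_inj hj (by simpa [n1_apply, and_comm, and_assoc] using hj)
    ((h2 g1).symm.trans (e1 j hj))
  have k2 := io_inj (j' := n2 0 j) hj ⟨hj.2.2, hj.2.1, by simp [n2_apply, hj.1]⟩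
    ((h2 g2).symm.trans (e2 j hj))
  have k3 := io_inj hj (conj_J ga hj) (by rw [map_mul, map_mul, map_inv, h2])
  obtain ⟨a, b, c⟩ := hj
  simp [Sy.ext_iff, n1_apply, n2_apply, ga, a, b, c] at k1 k2 k3
  have : j = 1 := by ext <;> simp <;> grind
  simpa [this] using h

/-- The embedding into `Co1`. -/
noncomputable def i1 : Sy →* Co1 := (QuotientGroup.mk' _).comp io

theorem lift_conj {g : Co0} {x y : Sy} (hx : x ^ 3 = 1) (hy : y ^ 3 = 1)
    (h : (g : Co1) * i1 x * (g : Co1)⁻¹ = i1 y) : g * io x * g⁻¹ = io y := by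
  obtain ⟨z, hz, e⟩ := (QuotientGroup.mk'_eq_mk' (Subgroup.center Co0)).1
    (show QuotientGroup.mk' _ (g * io x * g⁻¹) = QuotientGroup.mk' _ (io y) from h)
  have h1 := congrArg (· ^ 3) e
  simp only [(show Commute _ z from Subgroup.mem_center_iff.1 hz _).mul_pow, conj_pow, ← map_pow,
    hx, hy, map_one, mul_one, mul_inv_cancel, one_mul] at h1
  rw [pow_three, (center_Pm hz).sq, mul_one] at h1
  rw [← e, h1, mul_one]

theorem om24_ne : ∀ j ∈ om24, ∀ i, cc i j ≠ 0 := fun j hj => of_decide_eq_true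
  (List.all_eq_true.1 (by decide +kernel : (om24.all fun j => decide (∀ i, cc i j ≠ 0)) = true) j hj)

set_option synthInstance.maxSize 1024 in
theorem om24_of : ∀ p q r s t u : K3, r + u ≠ 0 → r + t - u ≠ 0 →
    r - t - u ≠ 0 → p ≠ 0 → p - s + u ≠ 0 → p + s + u ≠ 0 → -p + q - r ≠ 0 →
    -p + q - r + s + t - u ≠ 0 → -p + q - r - s - t - u ≠ 0 → -p - q - r ≠ 0 →
    -p - q - r + s - t - u ≠ 0 → -p - q - r - s + t - u ≠ 0 → jv p q r s t u ∈ om24 := by
  decide +kernel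

theorem gd : GD i1 1 (fun j => j ∈ om24) where
  fin := by haveI := finite_Co0; infer_instance
  inj := (injective_iff_map_eq_one _).2 fun x hx => by
    have h1 : io x ∈ Subgroup.center Co0 := (QuotientGroup.eq_one_iff _).1 hx
    have h2 : ∀ j ∈ J, x * j * x⁻¹ = j := fun j hj => io_inj (conj_J x hj) hj (by
      rw [map_mul, map_mul, map_inv, ← Subgroup.mem_center_iff.1 h1, mul_inv_cancel_right])
    have k1 := mul_inv_eq_iff_eq_mul.1 (h2 gu ⟨rfl, rfl, rfl⟩)
    have k2 := mul_inv_eq_iff_eq_mul.1 (h2 gt ⟨rfl, rfl, rfl⟩)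
    simp [Sy.ext_iff, gu, gt] at k1 k2
    have hj : x ∈ J := ⟨by grind, by grind, by grind⟩
    have h3 := congrArg io (cube_J hj)
    rw [map_pow, pow_three, (center_Pm h1).sq, mul_one] at h3
    exact io_inj hj (one_mem _) h3
  cent := fun g _ h => by
    obtain ⟨g, rfl⟩ := QuotientGroup.mk_surjective g
    obtain ⟨j, hj, e⟩ := cent0 (g := g) fun j hj => mul_inv_eq_iff_eq_mul.1
      (lift_conj (cube_J hj) (cube_J hj) (mul_inv_eq_iff_eq_mul.2 (h j hj)))
    exact ⟨j, hj, mul_inv_eq_one.1 ((QuotientGroup.eq_one_iff (g * (io j)⁻¹)).2 e.center)⟩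
  om := fun g j hj j' hj' h hO => by
    obtain ⟨g, rfl⟩ := QuotientGroup.mk_surjective g
    have e := lift_conj (cube_J hj) (cube_J hj') h
    have k : ∀ i, cc i j' ≠ 0 := fun i hi => by
      have h1 : hm (io j) (hm g⁻¹ (ee i)) = hm g⁻¹ (ee i) := by
        conv_rhs => rw [← fix_ee hj' hi, ← e]
        simp only [← hm_mul, mul_assoc, inv_mul_cancel_left]
      have h2 : hm g⁻¹ (ee i) = 0 := Pl_inj (funext fun l => by
        rw [map_zero]
        exact om_fix (om24_ne j hO l) (by rw [← Pl_J hj, h1]))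
      have h3 := congrArg (fun v => Pl (hm g v) i) h2
      simp only [← hm_mul, mul_inv_cancel, hm_one, Pl_ee, if_true, map_zero, Pi.zero_apply] at h3
      exact absurd h3 (by decide)
    rw [show j' = jv j'.p j'.q j'.r j'.s j'.t j'.u from
      Sy.ext rfl rfl rfl rfl rfl rfl hj'.1 hj'.2.1 hj'.2.2]
    exact om24_of _ _ _ _ _ _ (k 0) (k 1) (k 2) (k 3) (k 4) (k 5) (k 6) (k 7) (k 8) (k 9) (k 10)
      (k 11)
  g1 := exists_g1.elim fun g hg => ⟨g, fun j hj => congrArg (QuotientGroup.mk' _) (hg j hj)⟩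
  g2 := exists_g2.elim fun g hg => ⟨g, fun j hj => congrArg (QuotientGroup.mk' _) (hg j hj)⟩
  g3 := exists_g3.elim fun g hg =>
    ⟨g, gs, ⟨rfl, rfl, rfl⟩, gz, by simp [gz], congrArg (QuotientGroup.mk' _) hg⟩

instance instCoA : CoA := ⟨i1, gd⟩

end Cfsg.Agent.Co.A
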