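import Cfsg.Agent.Co.M
import Cfsg.Prelude.Def_Spor_Conway
import Cfsg.Agent.L.Transport2

/-! Coordinate subgroups, standard maps, and the interface for the realising groups. -/

set_option autoImplicit false
open Equiv
open scoped commutatorElement

namespace Cfsg.Agent.Co
open Cfsg.Fus Cfsg.FusionSystem

/-- A subgroup of `Sy` given by a predicate. -/
def csub (P : Sy → Prop) (h1 : P 1 := by simp)
    (hm : ∀ x y, P x → P y → P (x * y) := by intro x y; simp +contextual)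
    (hi : ∀ x, P x → P x⁻¹ := by intro x; simp +contextual) : Subgroup Sy where
  carrier := {x | P x}
  one_mem' := h1
  mul_mem' := fun {x y} hx hy => hm x y hx hy
  inv_mem' := fun {x} hx => hi x hx

def J : Subgroup Sy := csub fun x => x.a = 0 ∧ x.b = 0 ∧ x.z = 0
@[simp] theorem mem_J {x : Sy} : x ∈ J ↔ x.a = 0 ∧ x.b = 0 ∧ x.z = 0 := Iff.rfl
def E1 : Subgroup Sy := csub fun x => x.a = 0
@[simp] theorem mem_E1 {x : Sy} : x ∈ E1 ↔ x.a = 0 := Iff.rfl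
def E2 : Subgroup Sy := csub fun x => x.b = 0
@[simp] theorem mem_E2 {x : Sy} : x ∈ E2 ↔ x.b = 0 := Iff.rfl
def E3 : Subgroup Sy := csub fun x => x.u = 0
@[simp] theorem mem_E3 {x : Sy} : x ∈ E3 ↔ x.u = 0 := Iff.rfl
def ZL : Subgroup Sy := csub fun x => x.q = 0 ∧ x.r = 0 ∧ x.s = 0 ∧ x.t = 0 ∧ x.u = 0 ∧ x.a = 0 ∧ x.b = 0 ∧ x.z = 0
@[simp] theorem mem_ZL {x : Sy} : x ∈ ZL ↔ x.q = 0 ∧ x.r = 0 ∧ x.s = 0 ∧ x.t = 0 ∧ x.u = 0 ∧ x.a = 0 ∧ x.b = 0 ∧ x.z = 0 := Iff.rfl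
def L2 : Subgroup Sy := csub fun x => x.r = 0 ∧ x.s = 0 ∧ x.t = 0 ∧ x.u = 0 ∧ x.a = 0 ∧ x.b = 0 ∧ x.z = 0
@[simp] theorem mem_L2 {x : Sy} : x ∈ L2 ↔ x.r = 0 ∧ x.s = 0 ∧ x.t = 0 ∧ x.u = 0 ∧ x.a = 0 ∧ x.b = 0 ∧ x.z = 0 := Iff.rfl
def CC : Subgroup Sy := csub fun x => x.s = 0 ∧ x.t = 0 ∧ x.u = 0 ∧ x.a = 0 ∧ x.b = 0 ∧ x.z = 0
@[simp] theorem mem_CC {x : Sy} : x ∈ CC ↔ x.s = 0 ∧ x.t = 0 ∧ x.u = 0 ∧ x.a = 0 ∧ x.b = 0 ∧ x.z = 0 := Iff.rfl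
def UU : Subgroup Sy := csub fun x => x.r = 0 ∧ x.t = 0 ∧ x.u = 0 ∧ x.a = 0 ∧ x.b = 0 ∧ x.z = 0
@[simp] theorem mem_UU {x : Sy} : x ∈ UU ↔ x.r = 0 ∧ x.t = 0 ∧ x.u = 0 ∧ x.a = 0 ∧ x.b = 0 ∧ x.z = 0 := Iff.rfl
def K4 : Subgroup Sy := csub fun x => x.t = 0 ∧ x.u = 0 ∧ x.a = 0 ∧ x.b = 0 ∧ x.z = 0
@[simp] theorem mem_K4 {x : Sy} : x ∈ K4 ↔ x.t = 0 ∧ x.u = 0 ∧ x.a = 0 ∧ x.b = 0 ∧ x.z = 0 := Iff.rfl
def H0 : Subgroup Sy := csub fun x => x.u = 0 ∧ x.a = 0 ∧ x.b = 0 ∧ x.z = 0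
@[simp] theorem mem_H0 {x : Sy} : x ∈ H0 ↔ x.u = 0 ∧ x.a = 0 ∧ x.b = 0 ∧ x.z = 0 := Iff.rfl
def PH : Subgroup Sy := csub fun x => x.u = 0 ∧ x.a = 0 ∧ x.b = 0
@[simp] theorem mem_PH {x : Sy} : x ∈ PH ↔ x.u = 0 ∧ x.a = 0 ∧ x.b = 0 := Iff.rfl
def VV : Subgroup Sy := csub fun x => x.u = 0 ∧ x.a = 0
@[simp] theorem mem_VV {x : Sy} : x ∈ VV ↔ x.u = 0 ∧ x.a = 0 := Iff.rfl
def HP : Subgroup Sy := csub fun x => x.s = 0 ∧ x.t = 0 ∧ x.u = 0 ∧ x.a = 0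
@[simp] theorem mem_HP {x : Sy} : x ∈ HP ↔ x.s = 0 ∧ x.t = 0 ∧ x.u = 0 ∧ x.a = 0 := Iff.rfl
def JZ : Subgroup Sy := csub fun x => x.a = 0 ∧ x.b = 0
@[simp] theorem mem_JZ {x : Sy} : x ∈ JZ ↔ x.a = 0 ∧ x.b = 0 := Iff.rfl
def QQ : Subgroup Sy := csub fun x => x.r = 0 ∧ x.t = 0 ∧ x.u = 0 ∧ x.b = 0
@[simp] theorem mem_QQ {x : Sy} : x ∈ QQ ↔ x.r = 0 ∧ x.t = 0 ∧ x.u = 0 ∧ x.b = 0 := Iff.rfl
def WW : Subgroup Sy := csub fun x => x.t = 0 ∧ x.u = 0 ∧ x.a = 0 ∧ x.b = 0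
@[simp] theorem mem_WW {x : Sy} : x ∈ WW ↔ x.t = 0 ∧ x.u = 0 ∧ x.a = 0 ∧ x.b = 0 := Iff.rfl

/-- generators -/
def gp : Sy := ⟨1, 0, 0, 0, 0, 0, 0, 0, 0⟩
def gq : Sy := ⟨0, 1, 0, 0, 0, 0, 0, 0, 0⟩
def gr : Sy := ⟨0, 0, 1, 0, 0, 0, 0, 0, 0⟩
def gs : Sy := ⟨0, 0, 0, 1, 0, 0, 0, 0, 0⟩
def gt : Sy := ⟨0, 0, 0, 0, 1, 0, 0, 0, 0⟩
def gu : Sy := ⟨0, 0, 0, 0, 0, 1, 0, 0, 0⟩
def ga : Sy := ⟨0, 0, 0, 0, 0, 0, 1, 0, 0⟩
def gb : Sy := ⟨0, 0, 0, 0, 0, 0, 0, 1, 0⟩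
def gz : Sy := ⟨0, 0, 0, 0, 0, 0, 0, 0, 1⟩

/-- element of `J` -/
abbrev jv (p q r s t u : K3) : Sy := ⟨p, q, r, s, t, u, 0, 0, 0⟩

/-- the sign `±1` -/
def sn (e : Bool) : K3 := if e then -1 else 1
@[simp] theorem sn_mul_self (e : Bool) : sn e * sn e = 1 := by cases e <;> decide
@[simp] theorem sn_sq (e : Bool) : sn e ^ 2 = 1 := by cases e <;> decide
@[simp] theorem sn_true : sn true = -1 := rfl
@[simp] theorem sn_false : sn false = 1 := rfl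

def sgF (e f g : Bool) (x : Sy) : Sy :=
  ⟨sn g * x.p, sn e * sn g * x.q, sn g * x.r, sn e * sn f * sn g * x.s, sn f * sn g * x.t,
    sn g * x.u, sn e * x.a, sn f * x.b, sn e * sn f * x.z⟩

theorem sgF_sgF (e f g : Bool) (x : Sy) : sgF e f g (sgF e f g x) = x := by
  cases e <;> cases f <;> cases g <;> ext <;> simp [sgF]

/-- the diagonal automorphisms: signs `e, f, g` on `a, b, u`. -/
def sgA (e f g : Bool) : MulAut Sy where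
  toFun := sgF e f g
  invFun := sgF e f g
  left_inv := sgF_sgF e f g
  right_inv := sgF_sgF e f g
  map_mul' x y := by cases e <;> cases f <;> cases g <;> ext <;> simp [sgF] <;> ring

def sg (e f g : Bool) : Perm Sy := (sgA e f g).toEquiv
theorem sg_apply (e f g : Bool) (x : Sy) : sg e f g x = sgF e f g x := rfl
theorem sg_inv (e f g : Bool) : (sg e f g)⁻¹ = sg e f g := rfl

/-- the central automorphism `p ↦ p + k u`. -/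
def tauA (k : K3) : MulAut Sy where
  toFun x := ⟨x.p + k * x.u, x.q, x.r, x.s, x.t, x.u, x.a, x.b, x.z⟩
  invFun x := ⟨x.p - k * x.u, x.q, x.r, x.s, x.t, x.u, x.a, x.b, x.z⟩
  left_inv x := by ext <;> simp
  right_inv x := by ext <;> simp
  map_mul' x y := by ext <;> simp; ring

def tau (k : K3) : Perm Sy := (tauA k).toEquiv
theorem tau_apply (k : K3) (x : Sy) :
    tau k x = ⟨x.p + k * x.u, x.q, x.r, x.s, x.t, x.u, x.a, x.b, x.z⟩ := rfl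
theorem tau_inv_apply (k : K3) (x : Sy) :
    (tau k)⁻¹ x = ⟨x.p - k * x.u, x.q, x.r, x.s, x.t, x.u, x.a, x.b, x.z⟩ := rfl

/-- automorphism of `E1` (twisted by `tau k`). -/
def n1 (k : K3) : Perm Sy where
  toFun x := ⟨x.r + k * x.u, -x.q, x.p - k * x.u, x.t, -x.s, x.u, x.a, -x.z, x.b⟩
  invFun x := ⟨x.r + k * x.u, -x.q, x.p - k * x.u, -x.t, x.s, x.u, x.a, x.z, -x.b⟩
  left_inv x := by ext <;> simp
  right_inv x := by ext <;> simp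
theorem n1_apply (k : K3) (x : Sy) :
    n1 k x = ⟨x.r + k * x.u, -x.q, x.p - k * x.u, x.t, -x.s, x.u, x.a, -x.z, x.b⟩ := rfl
theorem n1_inv_apply (k : K3) (x : Sy) :
    (n1 k)⁻¹ x = ⟨x.r + k * x.u, -x.q, x.p - k * x.u, -x.t, x.s, x.u, x.a, x.z, -x.b⟩ := rfl

/-- automorphism of `E2` (twisted by `tau k`). -/
def n2 (k : K3) : Perm Sy where
  toFun x := ⟨x.p + k * (x.r - x.u), x.s, x.u, -x.q, -x.t, x.r, x.z, x.b, -x.a⟩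
  invFun x := ⟨x.p + k * (x.r - x.u), -x.s, x.u, x.q, -x.t, x.r, -x.z, x.b, x.a⟩
  left_inv x := by ext <;> simp; ring
  right_inv x := by ext <;> simp; ring
theorem n2_apply (k : K3) (x : Sy) :
    n2 k x = ⟨x.p + k * (x.r - x.u), x.s, x.u, -x.q, -x.t, x.r, x.z, x.b, -x.a⟩ := rfl
theorem n2_inv_apply (k : K3) (x : Sy) :
    (n2 k)⁻¹ x = ⟨x.p + k * (x.r - x.u), -x.s, x.u, x.q, -x.t, x.r, -x.z, x.b, x.a⟩ := rfl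

/-- automorphism of `E3`. -/
def n3 : Perm Sy where
  toFun x := ⟨x.p - 2 * x.s * x.z, x.q - x.b * x.s - x.t * x.z, x.r - 2 * x.b * x.t, -x.z, -x.b,
    x.u, x.a, x.t, x.s⟩
  invFun x := ⟨x.p - 2 * x.s * x.z, x.q - x.b * x.s - x.t * x.z, x.r - 2 * x.b * x.t, x.z, x.b,
    x.u, x.a, -x.t, -x.s⟩
  left_inv x := by ext <;> simp <;> ring
  right_inv x := by ext <;> simp <;> ring
theorem n3_apply (x : Sy) : n3 x = ⟨x.p - 2 * x.s * x.z, x.q - x.b * x.s - x.t * x.z,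
    x.r - 2 * x.b * x.t, -x.z, -x.b, x.u, x.a, x.t, x.s⟩ := rfl
theorem n3_inv_apply (x : Sy) : n3⁻¹ x = ⟨x.p - 2 * x.s * x.z, x.q - x.b * x.s - x.t * x.z,
    x.r - 2 * x.b * x.t, x.z, x.b, x.u, x.a, -x.t, -x.s⟩ := rfl

theorem homOn_n1 (k : K3) : HomOn (n1 k) E1 := fun x hx y hy => by
  simp only [mem_E1] at hx hy; ext <;> simp [n1_apply, hx, hy] <;> ring
theorem homOn_n2 (k : K3) : HomOn (n2 k) E2 := fun x hx y hy => by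
  simp only [mem_E2] at hx hy; ext <;> simp [n2_apply, hx, hy] <;> ring
theorem homOn_n3 : HomOn n3 E3 := fun x hx y hy => by
  simp only [mem_E3] at hx hy; ext <;> simp [n3_apply, hx, hy] <;> ring

/-- the 24 words of weight 12 of the ternary Golay code in the coordinates `(p,q,r,s,t,u)` of `J`. -/
def om24 : List Sy := [
  jv 1 0 0 0 0 1,
  jv 1 0 0 1 0 2,
  jv 1 0 0 2 0 2,
  jv 1 0 1 0 0 0,
  jv 1 0 1 0 1 1,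
  jv 1 0 1 0 2 1,
  jv 1 1 2 0 0 0,
  jv 1 1 2 1 2 2,
  jv 1 1 2 2 1 2,
  jv 1 2 2 0 0 0,
  jv 1 2 2 1 1 2,
  jv 1 2 2 2 2 2,
  jv 2 0 0 0 0 2,
  jv 2 0 0 1 0 1,
  jv 2 0 0 2 0 1,
  jv 2 0 2 0 0 0,
  jv 2 0 2 0 1 2,
  jv 2 0 2 0 2 2,
  jv 2 1 1 0 0 0,
  jv 2 1 1 1 1 1,
  jv 2 1 1 2 2 1,
  jv 2 2 1 0 0 0,
  jv 2 2 1 1 2 1,
  jv 2 2 1 2 1 1]

/-- What is needed from a realising group: `Om ⊆ J` is closed under fusion in `G`. -/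
structure GD {G : Type} [Group G] (ι : Sy →* G) (k : K3) (Om : Sy → Prop) : Prop where
  fin : Finite G
  inj : Function.Injective ι
  cent : ∀ g : G, (∃ n : ℕ, g ^ 3 ^ n = 1) → (∀ j ∈ J, g * ι j = ι j * g) → ∃ j ∈ J, g = ι j
  om : ∀ (g : G), ∀ j ∈ J, ∀ j' ∈ J, g * ι j * g⁻¹ = ι j' → Om j → Om j'
  g1 : ∃ g : G, ∀ j ∈ J, g * ι j * g⁻¹ = ι (n1 k j)
  g2 : ∃ g : G, ∀ j ∈ J, g * ι j * g⁻¹ = ι (n2 0 j)
  g3 : ∃ g : G, ∃ j ∈ J, ∃ y ∉ J, g * ι j * g⁻¹ = ι y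

/-- Slice (A): the Conway group. -/
class CoA : Prop where
  out : ∃ ι : Sy →* Cfsg.Spor.Co1, GD ι 1 (fun j => j ∈ om24)

/-- rank one symmetric matrices `± w wᵀ` (only `+` when `e` is false). -/
def om13 (e : Bool) (j : Sy) : Prop :=
  ∃ x y w : K3, ∃ f : Bool, (f = true → e = true) ∧
    j = jv (sn f * x ^ 2) (sn f * x * y) (sn f * y ^ 2) (sn f * x * w) (sn f * y * w) (sn f * w ^ 2)

/-- Slice (P): the symplectic groups. -/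
class SpP : Prop where
  out : ∀ e : Bool, ∃ (G : Type) (_ : Group G) (ι : Sy →* G), GD ι 0 (om13 e) ∧
    (e = true → ∃ g : G, ∀ j ∈ J, g * ι j * g⁻¹ = ι j⁻¹)

end Cfsg.Agent.Co
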