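import Cfsg.Agent.H4.Sp4S
import Cfsg.Agent.L.Realize

/-! Model of a Sylow 3-subgroup of `Sp₆(3)` / `Co₁`: symmetric 3×3 matrices extended by `UT₃(3)`. -/

set_option autoImplicit false
open Equiv
open scoped commutatorElement

namespace Cfsg.Agent.Co
open Cfsg.Fus Cfsg.FusionSystem

abbrev K3 : Type := ZMod 3

/-- `(X, A)` with `X = [[p,q,s],[q,r,t],[s,t,u]]`, `A = [[1,a,z],[0,1,b],[0,0,1]]`,
`(X,A)(Y,B) = (X + A Y Aᵀ, A B)`. -/
@[ext] structure Sy where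
  p : K3
  q : K3
  r : K3
  s : K3
  t : K3
  u : K3
  a : K3
  b : K3
  z : K3
deriving DecidableEq

def Sy.equivFun : Sy ≃ (K3 × K3 × K3 × K3 × K3 × K3 × K3 × K3 × K3) where
  toFun x := (x.p, x.q, x.r, x.s, x.t, x.u, x.a, x.b, x.z)
  invFun y := ⟨y.1, y.2.1, y.2.2.1, y.2.2.2.1, y.2.2.2.2.1, y.2.2.2.2.2.1, y.2.2.2.2.2.2.1,
    y.2.2.2.2.2.2.2.1, y.2.2.2.2.2.2.2.2⟩
  left_inv _ := rfl
  right_inv _ := rfl

instance instFintypeSy : Fintype Sy := Fintype.ofEquiv _ Sy.equivFun.symm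

instance instMulSy : Mul Sy := ⟨fun x y =>
  ⟨x.p + y.p + 2 * x.a * y.q + x.a ^ 2 * y.r + 2 * x.z * y.s + 2 * x.a * x.z * y.t + x.z ^ 2 * y.u,
   x.q + y.q + x.a * y.r + x.b * y.s + (x.z + x.a * x.b) * y.t + x.z * x.b * y.u,
   x.r + y.r + 2 * x.b * y.t + x.b ^ 2 * y.u,
   x.s + y.s + x.a * y.t + x.z * y.u,
   x.t + y.t + x.b * y.u,
   x.u + y.u, x.a + y.a, x.b + y.b, x.z + y.z + x.a * y.b⟩⟩

instance instOneSy : One Sy := ⟨⟨0, 0, 0, 0, 0, 0, 0, 0, 0⟩⟩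

instance instInvSy : Inv Sy := ⟨fun x =>
  ⟨-(x.p - 2 * x.a * x.q + x.a ^ 2 * x.r + 2 * (x.a * x.b - x.z) * x.s
      - 2 * x.a * (x.a * x.b - x.z) * x.t + (x.a * x.b - x.z) ^ 2 * x.u),
   -(x.q - x.a * x.r - x.b * x.s + (2 * x.a * x.b - x.z) * x.t - (x.a * x.b - x.z) * x.b * x.u),
   -(x.r - 2 * x.b * x.t + x.b ^ 2 * x.u),
   -(x.s - x.a * x.t + (x.a * x.b - x.z) * x.u),
   -(x.t - x.b * x.u),
   -x.u, -x.a, -x.b, x.a * x.b - x.z⟩⟩

section simps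
variable (x y : Sy)
@[simp] theorem mul_p : (x * y).p = x.p + y.p + 2 * x.a * y.q + x.a ^ 2 * y.r + 2 * x.z * y.s
    + 2 * x.a * x.z * y.t + x.z ^ 2 * y.u := rfl
@[simp] theorem mul_q : (x * y).q = x.q + y.q + x.a * y.r + x.b * y.s + (x.z + x.a * x.b) * y.t
    + x.z * x.b * y.u := rfl
@[simp] theorem mul_r : (x * y).r = x.r + y.r + 2 * x.b * y.t + x.b ^ 2 * y.u := rfl
@[simp] theorem mul_s : (x * y).s = x.s + y.s + x.a * y.t + x.z * y.u := rfl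
@[simp] theorem mul_t : (x * y).t = x.t + y.t + x.b * y.u := rfl
@[simp] theorem mul_u : (x * y).u = x.u + y.u := rfl
@[simp] theorem mul_a : (x * y).a = x.a + y.a := rfl
@[simp] theorem mul_b : (x * y).b = x.b + y.b := rfl
@[simp] theorem mul_z : (x * y).z = x.z + y.z + x.a * y.b := rfl
@[simp] theorem one_p : (1 : Sy).p = 0 := rfl
@[simp] theorem one_q : (1 : Sy).q = 0 := rfl
@[simp] theorem one_r : (1 : Sy).r = 0 := rfl
@[simp] theorem one_s : (1 : Sy).s = 0 := rfl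
@[simp] theorem one_t : (1 : Sy).t = 0 := rfl
@[simp] theorem one_u : (1 : Sy).u = 0 := rfl
@[simp] theorem one_a : (1 : Sy).a = 0 := rfl
@[simp] theorem one_b : (1 : Sy).b = 0 := rfl
@[simp] theorem one_z : (1 : Sy).z = 0 := rfl
@[simp] theorem inv_p : x⁻¹.p = -(x.p - 2 * x.a * x.q + x.a ^ 2 * x.r + 2 * (x.a * x.b - x.z) * x.s
      - 2 * x.a * (x.a * x.b - x.z) * x.t + (x.a * x.b - x.z) ^ 2 * x.u) := rfl
@[simp] theorem inv_q : x⁻¹.q = -(x.q - x.a * x.r - x.b * x.s + (2 * x.a * x.b - x.z) * x.t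
      - (x.a * x.b - x.z) * x.b * x.u) := rfl
@[simp] theorem inv_r : x⁻¹.r = -(x.r - 2 * x.b * x.t + x.b ^ 2 * x.u) := rfl
@[simp] theorem inv_s : x⁻¹.s = -(x.s - x.a * x.t + (x.a * x.b - x.z) * x.u) := rfl
@[simp] theorem inv_t : x⁻¹.t = -(x.t - x.b * x.u) := rfl
@[simp] theorem inv_u : x⁻¹.u = -x.u := rfl
@[simp] theorem inv_a : x⁻¹.a = -x.a := rfl
@[simp] theorem inv_b : x⁻¹.b = -x.b := rfl
@[simp] theorem inv_z : x⁻¹.z = x.a * x.b - x.z := rfl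
end simps

instance instGroupSy : Group Sy := Group.ofLeftAxioms
  (fun x y w => by ext <;> simp <;> ring)
  (fun x => by ext <;> simp)
  (fun x => by ext <;> simp <;> ring)

theorem card_Sy : Nat.card Sy = 3 ^ 9 := by
  rw [Nat.card_congr Sy.equivFun]; simp

instance instFact3Co : Fact (Nat.Prime 3) := ⟨by norm_num⟩

theorem isP_Sy : IsPGroup 3 Sy := IsPGroup.of_card card_Sy

theorem isP_top : IsPGroup 3 (⊤ : Subgroup Sy) := isP_Sy.to_subgroup _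

end Cfsg.Agent.Co
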